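import Groth.Prelude.Def_ModSite
import Groth.Agent.Lib.ModSiteLoc.Basic
import Groth.Agent.Lib.ModSiteLoc.Top
import Groth.Agent.Lib.TopShSet.Basic

/-!
# Direct image of modules along a closed immersion of ringed spaces
-/

set_option autoImplicit false
set_option linter.style.haveILetI false

universe u

open CategoryTheory Limits Opposite TopologicalSpace
open Groth.Agent.Lib.ModSiteLoc.Basic
open Groth.TopShSet

namespace Groth.Agent.H73.RSClosed

variable {Z X : TopCat.{u}} {i : Z ⟶ X}
  {O_Z : TopCat.Sheaf CommRingCat.{u} Z} {O_X : TopCat.Sheaf CommRingCat.{u} X}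
  (c : O_X ⟶ ((TopologicalSpace.Opens.map i).sheafPushforwardContinuous CommRingCat.{u}
    (Opens.grothendieckTopology X) (Opens.grothendieckTopology Z)).obj O_Z)

/-- The direct image of modules. -/
noncomputable abbrev pf : _root_.ModSite.Mod O_Z ⥤ _root_.ModSite.Mod O_X :=
  (_root_.ModSite.RMor.ofFlat (Opens.map i) c).push

/-- The comorphism on sections. -/
noncomputable abbrev cc (U : Opens X) : O_X.obj.obj (op U) →+* O_Z.obj.obj (op ((Opens.map i).obj U)) :=
  (c.hom.app (op U)).hom

theorem cc_rr {U V : Opens X} (v : V ⟶ U) (a : O_X.obj.obj (op U)) :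
    cc c V (rr O_X v a) = rr O_Z ((Opens.map i).map v) (cc c U a) :=
  ConcreteCategory.congr_hom (c.hom.naturality v.op) a

/-- The morphism `W ⟶ i⁻¹ (ext W)`. -/
def toExt (hi : Topology.IsClosedEmbedding i) (W : Opens Z) :
    W ⟶ (Opens.map i).obj (ext i W) :=
  homOfLE (map_ext i hi.isInducing W).ge

/-- The morphism `i⁻¹ (ext W) ⟶ W`. -/
def ofExt (hi : Topology.IsClosedEmbedding i) (W : Opens Z) :
    (Opens.map i).obj (ext i W) ⟶ W :=
  homOfLE (map_ext i hi.isInducing W).le

/-- The complement of `Z`. -/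
def compl (hi : Topology.IsClosedEmbedding i) : Opens X :=
  ⟨(Set.range i)ᶜ, hi.isClosed_range.isOpen_compl⟩

section Subsingleton

variable (M : _root_.ModSite.Mod O_Z)

theorem eq_of_empty {W : Opens Z} (hW : ∀ z, z ∉ W) (s t : _root_.ModSite.sect M W) : s = t :=
  eq_of_locally (O := O_Z) (S := ⊥) (fun w hw => absurd hw (hW w)) fun _ _ hg => hg.elim

theorem eq_of_empty_ring {W : Opens Z} (hW : ∀ z, z ∉ W) (s t : O_Z.obj.obj (op W)) : s = t :=
  eq_of_locally_ring (O := O_Z) (S := ⊥) (fun w hw => absurd hw (hW w)) fun _ _ hg => hg.elim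

theorem not_mem_preimage (hi : Topology.IsClosedEmbedding i) {V : Opens X} (hV : V ≤ compl hi)
    (z : Z) : z ∉ (Opens.map i).obj V :=
  fun hz => hV hz ⟨z, rfl⟩

end Subsingleton

variable {c}

section Faithful

variable {M N : _root_.ModSite.Mod O_Z}

theorem faithful (hi : Topology.IsClosedEmbedding i) : (pf c).Faithful where
  map_injective {M N} φ ψ h := by
    apply SheafOfModules.hom_ext
    apply PresheafOfModules.Hom.ext
    funext W
    refine ModuleCat.hom_ext (LinearMap.ext fun s => ?_)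
    obtain ⟨W⟩ := W
    have hs : ∀ t : _root_.ModSite.sect M ((Opens.map i).obj (ext i W)), ap φ t = ap ψ t := fun t =>
      congrArg (fun q : (pf c).obj M ⟶ (pf c).obj N => q.val.app (op (ext i W)) t) h
    have he : rs M (toExt hi W) (rs M (ofExt hi W) s) = s := by
      rw [rs_rs]; exact rs_id s
    show ap φ s = ap ψ s
    rw [← he]
    exact (ap_rs φ _ _).trans ((congrArg (rs N (toExt hi W)) (hs _)).trans (ap_rs ψ _ _).symm)

variable (hi : Topology.IsClosedEmbedding i) (φ : (pf c).obj M ⟶ (pf c).obj N)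

/-- The map underlying a preimage. -/
noncomputable def preFun (W : Opens Z) : _root_.ModSite.sect M W →+ _root_.ModSite.sect N W :=
  (rs N (toExt hi W)).comp
    (((ap φ (U := ext i W)).toAddMonoidHom : _root_.ModSite.sect M ((Opens.map i).obj (ext i W)) →+
      _root_.ModSite.sect N ((Opens.map i).obj (ext i W))).comp (rs M (ofExt hi W)))

theorem preFun_apply (W : Opens Z) (s : _root_.ModSite.sect M W) :
    preFun hi φ W s = rs N (toExt hi W) (ap φ (U := ext i W) (rs M (ofExt hi W) s)) := rfl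

theorem ap_rs_pf {U V : Opens X} (v : V ⟶ U) (t : _root_.ModSite.sect M ((Opens.map i).obj U)) :
    ap φ (U := V) (rs M ((Opens.map i).map v) t) = rs N ((Opens.map i).map v) (ap φ (U := U) t) :=
  ap_rs φ v t

theorem preFun_rs {W W' : Opens Z} (g : W' ⟶ W) (s : _root_.ModSite.sect M W) :
    preFun hi φ W' (rs M g s) = rs N g (preFun hi φ W s) := by
  rw [preFun_apply, preFun_apply, rs_rs, rs_rs]
  have h : rs M (ofExt hi W' ≫ g) s =
      rs M ((Opens.map i).map (homOfLE (ext_mono i g.le))) (rs M (ofExt hi W) s) := by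
    rw [rs_rs]; rfl
  rw [h, ap_rs_pf, rs_rs]
  rfl

theorem preFun_map (V : Opens X) (s : _root_.ModSite.sect M ((Opens.map i).obj V)) :
    preFun hi φ _ s = ap φ (U := V) s := by
  rw [preFun_apply]
  have h : s = rs M ((Opens.map i).map (homOfLE (le_ext i V)))
      (rs M (ofExt hi ((Opens.map i).obj V)) s) := by
    rw [rs_rs]; exact (rs_id s).symm
  conv_rhs => rw [h, ap_rs_pf]
  rfl

theorem preFun_smul (hc : Sheaf.IsLocallySurjective c) (W : Opens Z) (a : O_Z.obj.obj (op W))
    (s : _root_.ModSite.sect M W) : preFun hi φ W (a • s) = a • preFun hi φ W s := by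
  let S : Sieve W :=
    { arrows := fun W' g => rs N g (preFun hi φ W (a • s)) = rs N g (a • preFun hi φ W s)
      downward_closed := fun {W' W''} g hg h => by
        rw [← rs_rs, ← rs_rs, hg] }
  refine eq_of_locally (O := O_Z) (S := S) (fun z hz => ?_) fun _ _ hg => hg
  obtain ⟨V, hV, hzV, b, hb⟩ := Lib.ModSiteLoc.Top.exists_nhd
    (hc.imageSieve_mem (U := ext i W) (rr O_Z (ofExt hi W) a))
    (show i z ∈ ext i W from (toExt hi W).le hz)
  let g : (Opens.map i).obj V ⟶ W := (Opens.map i).map (homOfLE hV) ≫ ofExt hi W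
  refine ⟨_, g, ?_, hzV⟩
  show rs N g (preFun hi φ W (a • s)) = rs N g (a • preFun hi φ W s)
  have hb' : cc c V b = rr O_Z g a :=
    hb.trans (rr_rr (ofExt hi W) ((Opens.map i).map (homOfLE hV)) a)
  rw [rs_smul, ← preFun_rs, ← preFun_rs, rs_smul, preFun_map, preFun_map, ← hb']
  exact map_smul (φ.val.app (op V)).hom b (show ((pf c).obj M).val.obj (op V) from rs M g s)

theorem full (hi : Topology.IsClosedEmbedding i) (hc : Sheaf.IsLocallySurjective c) : (pf c).Full where
  map_surjective {M N} φ := by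
    refine ⟨⟨PresheafOfModules.homMk
      { app := fun W => AddCommGrpCat.ofHom (preFun hi φ W.unop)
        naturality := fun W W' g => by
          ext s
          exact preFun_rs hi φ g.unop s }
      fun W a s => preFun_smul hi φ hc W.unop a s⟩, ?_⟩
    apply SheafOfModules.hom_ext
    apply PresheafOfModules.Hom.ext
    funext U
    refine ModuleCat.hom_ext (LinearMap.ext fun s => ?_)
    exact preFun_map hi φ U.unop s

end Faithful

theorem epi_map (hi : Topology.IsClosedEmbedding i) {M N : _root_.ModSite.Mod O_Z} (φ : M ⟶ N)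
    [Epi φ] : Epi ((pf c).map φ) := by
  refine epi_of_exists_lift _ fun U t => ?_
  let S : Sieve U :=
    { arrows := fun V g => ∃ x, ap ((pf c).map φ) x = rs ((pf c).obj N) g t
      downward_closed := fun {V V'} g hg h => by
        obtain ⟨x, hx⟩ := hg
        exact ⟨rs ((pf c).obj M) h x, by rw [ap_rs, hx, rs_rs]⟩ }
  refine ⟨S, fun y hy => ?_, fun _ _ hg => hg⟩
  by_cases hyr : y ∈ Set.range i
  swap
  · refine ⟨U ⊓ compl hi, homOfLE inf_le_left, ⟨0, ?_⟩, ⟨hy, hyr⟩⟩
    exact eq_of_empty N (W := (Opens.map i).obj (U ⊓ compl hi))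
      (not_mem_preimage hi inf_le_right) _ _
  obtain ⟨z, rfl⟩ := hyr
  obtain ⟨T, hT, hT'⟩ := exists_lift φ (ι := PUnit.{1}) (U := (Opens.map i).obj U) (fun _ => t)
  obtain ⟨W', hW', hzW', hTW'⟩ :=
    Lib.ModSiteLoc.Top.exists_nhd hT (show z ∈ (Opens.map i).obj U from hy)
  obtain ⟨x, hx⟩ := hT' _ hTW'
  have hz : i z ∈ ext i W' := (toExt hi W').le hzW'
  let h : (Opens.map i).obj (U ⊓ ext i W') ⟶ W' :=
    (Opens.map i).map (homOfLE inf_le_right) ≫ ofExt hi W'
  refine ⟨U ⊓ ext i W', homOfLE inf_le_left, ⟨rs M h (x ⟨⟩), ?_⟩, ⟨hy, hz⟩⟩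
  show ap φ (rs M h (x ⟨⟩)) = rs N ((Opens.map i).map (homOfLE inf_le_left)) t
  rw [ap_rs, hx, rs_rs]
  rfl

theorem preservesFiniteColimits (hi : Topology.IsClosedEmbedding i) :
    PreservesFiniteColimits (pf c) := by
  have hl : PreservesFiniteLimits (pf c) := ⟨fun J _ _ => inferInstance⟩
  rw [Functor.preservesFiniteColimits_iff_forall_exact_map_and_epi]
  intro S hS
  haveI := hS.mono_f
  haveI := hS.epi_g
  exact ⟨hS.exact.map_of_mono_of_preservesKernel (pf c) hS.mono_f inferInstance, epi_map hi S.g⟩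

end Groth.Agent.H73.RSClosed
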