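import Groth.Agent.H73.RSClosed.Basic
import Mathlib.Topology.Sheaves.SheafCondition.UniqueGluing

/-!
# Essential image of the direct image along a closed immersion of ringed spaces
-/

set_option autoImplicit false
set_option linter.style.haveILetI false

universe u

open CategoryTheory Limits Opposite TopologicalSpace
open Groth.Agent.Lib.ModSiteLoc.Basic
open Groth.TopShSet

namespace Groth.Agent.H73.RSClosed

variable {Z X : TopCat.{u}} {i : Z ⟶ X}
  {O_Z : TopCat.Sheaf CommRingCat.{u} Z} {O_X : TopCat.Sheaf CommRingCat.{u} X}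
  (c : O_X ⟶ ((TopologicalSpace.Opens.map i).sheafPushforwardContinuous CommRingCat.{u}
    (Opens.grothendieckTopology X) (Opens.grothendieckTopology Z)).obj O_Z)

/-- `G` is killed by the kernel of `c`. -/
def Killed (G : _root_.ModSite.Mod O_X) : Prop :=
  ∀ (U : Opens X) (a : O_X.obj.obj (op U)), cc c U a = 0 → ∀ s : _root_.ModSite.sect G U, a • s = 0

variable {c} {G : _root_.ModSite.Mod O_X}

theorem Killed.smul_eq (hG : Killed c G) {U : Opens X} {a b : O_X.obj.obj (op U)}
    (h : cc c U a = cc c U b) (s : _root_.ModSite.sect G U) : a • s = b • s := by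
  have := hG U (a - b) (by rw [map_sub, h, sub_self]) s
  rwa [sub_smul, sub_eq_zero] at this

theorem Killed.eq_zero_of_le_compl (hG : Killed c G) (hi : Topology.IsClosedEmbedding i) {U : Opens X}
    (hU : U ≤ compl hi) (s : _root_.ModSite.sect G U) : s = 0 := by
  have := hG U 1 (eq_of_empty_ring (not_mem_preimage hi hU) _ _) s
  rwa [one_smul] at this

theorem cover_lift (hi : Topology.IsClosedEmbedding i) (hc : Sheaf.IsLocallySurjective c)
    {U : Opens X} (a : O_Z.obj.obj (op ((Opens.map i).obj U))) {y : X} (hy : y ∈ U) :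
    ∃ (V : Opens X) (v : V ⟶ U) (_ : y ∈ V), ∃ b, cc c V b = rr O_Z ((Opens.map i).map v) a := by
  by_cases hyr : y ∈ Set.range i
  swap
  · exact ⟨U ⊓ compl hi, homOfLE inf_le_left, ⟨hy, hyr⟩, 0,
      eq_of_empty_ring (W := (Opens.map i).obj (U ⊓ compl hi)) (not_mem_preimage hi inf_le_right) _ _⟩
  obtain ⟨z, rfl⟩ := hyr
  obtain ⟨V, hV, hzV, b, hb⟩ :=
    Lib.ModSiteLoc.Top.exists_nhd (hc.imageSieve_mem (U := U) a) hy
  exact ⟨V, homOfLE hV, hzV, b, hb⟩

section

variable (hi : Topology.IsClosedEmbedding i) (hc : Sheaf.IsLocallySurjective c) (hG : Killed c G)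

/-- Characterisation of the action of a function on `Z` on a section of `G`. -/
def IsAct {U : Opens X} (a : O_Z.obj.obj (op ((Opens.map i).obj U))) (t u : _root_.ModSite.sect G U) : Prop :=
  ∀ ⦃V : Opens X⦄ (v : V ⟶ U) (b : O_X.obj.obj (op V)),
    cc c V b = rr O_Z ((Opens.map i).map v) a → rs G v u = b • rs G v t

include hi hc in
theorem IsAct.unique {U : Opens X} {a : O_Z.obj.obj (op ((Opens.map i).obj U))}
    {t u u' : _root_.ModSite.sect G U} (h : IsAct (c := c) a t u) (h' : IsAct (c := c) a t u') : u = u' := by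
  let S : Sieve U :=
    { arrows := fun V g => rs G g u = rs G g u'
      downward_closed := fun {V V'} g hg h => by rw [← rs_rs, ← rs_rs, hg] }
  refine eq_of_locally (O := O_X) (S := S) (fun y hy => ?_) fun _ _ hg => hg
  obtain ⟨V, v, hyV, b, hb⟩ := cover_lift hi hc a hy
  exact ⟨V, v, (h v b hb).trans (h' v b hb).symm, hyV⟩

include hi hc hG in
theorem exists_isAct {U : Opens X} (a : O_Z.obj.obj (op ((Opens.map i).obj U)))
    (t : _root_.ModSite.sect G U) : ∃ u, IsAct (c := c) a t u := by
  let ι := Σ' (V : Opens X) (v : V ⟶ U) (b : O_X.obj.obj (op V)),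
    cc c V b = rr O_Z ((Opens.map i).map v) a
  obtain ⟨u, hu, -⟩ := TopCat.Sheaf.existsUnique_gluing'
    ((_root_.ModSite.toAb G : TopCat.Sheaf AddCommGrpCat.{u} X)) (fun p : ι => p.1) U
    (fun p => p.2.1)
    (fun y hy => by
      obtain ⟨V, v, hyV, b, hb⟩ := cover_lift hi hc a hy
      exact Opens.mem_iSup.2 ⟨⟨V, v, b, hb⟩, hyV⟩)
    (fun p => p.2.2.1 • rs G p.2.1 t)
    (fun p q => by
      show rs G (homOfLE inf_le_left : p.1 ⊓ q.1 ⟶ p.1) (p.2.2.1 • rs G p.2.1 t) =
        rs G (homOfLE inf_le_right : p.1 ⊓ q.1 ⟶ q.1) (q.2.2.1 • rs G q.2.1 t)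
      rw [rs_smul, rs_smul, rs_rs, rs_rs]
      refine hG.smul_eq ?_ _
      rw [cc_rr, cc_rr, p.2.2.2, q.2.2.2, rr_rr, rr_rr]
      rfl)
  exact ⟨u, fun V v b hb => hu ⟨V, v, b, hb⟩⟩

/-- The action of functions on `Z` on sections of `G`. -/
noncomputable def act {U : Opens X} (a : O_Z.obj.obj (op ((Opens.map i).obj U)))
    (t : _root_.ModSite.sect G U) : _root_.ModSite.sect G U :=
  (exists_isAct hi hc hG a t).choose

theorem act_spec {U : Opens X} (a : O_Z.obj.obj (op ((Opens.map i).obj U)))
    (t : _root_.ModSite.sect G U) : IsAct (c := c) a t (act hi hc hG a t) :=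
  (exists_isAct hi hc hG a t).choose_spec

theorem act_eq {U : Opens X} {a : O_Z.obj.obj (op ((Opens.map i).obj U))}
    {t u : _root_.ModSite.sect G U} (h : IsAct (c := c) a t u) : act hi hc hG a t = u :=
  IsAct.unique hi hc (act_spec hi hc hG a t) h

theorem act_cc {U : Opens X} (r : O_X.obj.obj (op U)) (t : _root_.ModSite.sect G U) :
    act hi hc hG (cc c U r) t = r • t :=
  act_eq hi hc hG fun V v b hb => by
    rw [rs_smul]
    exact hG.smul_eq (by rw [cc_rr, hb]) _

theorem act_rs {U U' : Opens X} (w : U' ⟶ U) (a : O_Z.obj.obj (op ((Opens.map i).obj U)))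
    (t : _root_.ModSite.sect G U) :
    act hi hc hG (rr O_Z ((Opens.map i).map w) a) (rs G w t) = rs G w (act hi hc hG a t) :=
  act_eq hi hc hG fun V v b hb => by
    rw [rs_rs, rs_rs]
    exact act_spec hi hc hG a t (v ≫ w) b (hb.trans (rr_rr _ _ _))

theorem act_add_right {U : Opens X} (a : O_Z.obj.obj (op ((Opens.map i).obj U)))
    (t t' : _root_.ModSite.sect G U) :
    act hi hc hG a (t + t') = act hi hc hG a t + act hi hc hG a t' :=
  act_eq hi hc hG fun V v b hb => by
    rw [map_add, map_add, smul_add, act_spec hi hc hG a t v b hb, act_spec hi hc hG a t' v b hb]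

theorem act_one {U : Opens X} (t : _root_.ModSite.sect G U) : act hi hc hG 1 t = t := by
  rw [← map_one (cc c U), act_cc, one_smul]

theorem act_zero_left {U : Opens X} (t : _root_.ModSite.sect G U) : act hi hc hG 0 t = 0 := by
  rw [← map_zero (cc c U), act_cc, zero_smul]

theorem act_zero_right {U : Opens X} (a : O_Z.obj.obj (op ((Opens.map i).obj U))) :
    act hi hc hG a (0 : _root_.ModSite.sect G U) = 0 :=
  act_eq hi hc hG fun V v b hb => by rw [map_zero, smul_zero]

theorem ext_lifts₂ {U : Opens X} (a a' : O_Z.obj.obj (op ((Opens.map i).obj U)))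
    {x y : _root_.ModSite.sect G U}
    (h : ∀ ⦃V : Opens X⦄ (v : V ⟶ U) (b b' : O_X.obj.obj (op V)),
      cc c V b = rr O_Z ((Opens.map i).map v) a → cc c V b' = rr O_Z ((Opens.map i).map v) a' →
      rs G v x = rs G v y)
    (hi : Topology.IsClosedEmbedding i) (hc : Sheaf.IsLocallySurjective c) : x = y := by
  let S : Sieve U :=
    { arrows := fun V g => rs G g x = rs G g y
      downward_closed := fun {V V'} g hg h => by rw [← rs_rs, ← rs_rs, hg] }
  refine eq_of_locally (O := O_X) (S := S) (fun z hz => ?_) fun _ _ hg => hg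
  obtain ⟨V, v, hzV, b, hb⟩ := cover_lift hi hc a hz
  obtain ⟨V', v', hzV', b', hb'⟩ := cover_lift hi hc a' hz
  let l : V ⊓ V' ⟶ V := homOfLE inf_le_left
  let l' : V ⊓ V' ⟶ V' := homOfLE inf_le_right
  refine ⟨V ⊓ V', l ≫ v, h (l ≫ v) (rr O_X l b) (rr O_X l' b') ?_ ?_, ⟨hzV, hzV'⟩⟩
  · rw [cc_rr, hb, rr_rr]; rfl
  · rw [cc_rr, hb', rr_rr]; rfl

theorem act_mul {U : Opens X} (a a' : O_Z.obj.obj (op ((Opens.map i).obj U)))
    (t : _root_.ModSite.sect G U) :
    act hi hc hG (a * a') t = act hi hc hG a (act hi hc hG a' t) :=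
  ext_lifts₂ (c := c) a a' (fun V v b b' hb hb' => by
    rw [act_spec hi hc hG (a * a') t v (b * b') (by rw [map_mul, map_mul, hb, hb']),
      act_spec hi hc hG a _ v b hb, act_spec hi hc hG a' t v b' hb', mul_smul]) hi hc

theorem act_add_left {U : Opens X} (a a' : O_Z.obj.obj (op ((Opens.map i).obj U)))
    (t : _root_.ModSite.sect G U) :
    act hi hc hG (a + a') t = act hi hc hG a t + act hi hc hG a' t :=
  ext_lifts₂ (c := c) a a' (fun V v b b' hb hb' => by
    rw [map_add (rs G v), act_spec hi hc hG (a + a') t v (b + b') (by rw [map_add, map_add, hb, hb']),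
      act_spec hi hc hG a t v b hb, act_spec hi hc hG a' t v b' hb', add_smul]) hi hc

include hi hG in
theorem bijective_rs {U U' : Opens X} (w : U ⟶ U')
    (hw : (Opens.map i).obj U' ≤ (Opens.map i).obj U) : Function.Bijective (rs G w) := by
  have hcov : ∀ y ∈ U', y ∈ U ∨ y ∈ compl hi := fun y hy => by
    by_cases hyr : y ∈ Set.range i
    · obtain ⟨z, rfl⟩ := hyr
      exact Or.inl (hw hy)
    · exact Or.inr hyr
  constructor
  · intro s t hst
    let S : Sieve U' :=
      { arrows := fun V g => rs G g s = rs G g t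
        downward_closed := fun {V V'} g hg h => by rw [← rs_rs, ← rs_rs, hg] }
    refine eq_of_locally (O := O_X) (S := S) (fun y hy => ?_) fun _ _ hg => hg
    rcases hcov y hy with h | h
    · exact ⟨U, w, hst, h⟩
    · exact ⟨U' ⊓ compl hi, homOfLE inf_le_left,
        (hG.eq_zero_of_le_compl hi inf_le_right _).trans (hG.eq_zero_of_le_compl hi inf_le_right _).symm,
        ⟨hy, h⟩⟩
  · intro s
    let V : ULift.{u} Bool → Opens X := fun b => if b.down then U else U' ⊓ compl hi
    let j : ∀ b, V b ⟶ U' := fun b => homOfLE (by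
      obtain ⟨_ | _⟩ := b
      · exact inf_le_left
      · exact w.le)
    let sf : ∀ b, _root_.ModSite.sect G (V b) := fun b => match b with
      | ⟨true⟩ => s
      | ⟨false⟩ => 0
    obtain ⟨t, ht, -⟩ := TopCat.Sheaf.existsUnique_gluing'
      ((_root_.ModSite.toAb G : TopCat.Sheaf AddCommGrpCat.{u} X)) V U' j
      (fun y hy => by
        rcases hcov y hy with h | h
        · exact Opens.mem_iSup.2 ⟨⟨true⟩, h⟩
        · exact Opens.mem_iSup.2 ⟨⟨false⟩, ⟨hy, h⟩⟩)
      sf
      (fun a b => by
        rcases a with ⟨_ | _⟩ <;> rcases b with ⟨_ | _⟩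
        · rfl
        · exact (hG.eq_zero_of_le_compl hi (inf_le_left.trans inf_le_right) _).trans
            (hG.eq_zero_of_le_compl hi (inf_le_left.trans inf_le_right) _).symm
        · exact (hG.eq_zero_of_le_compl hi (inf_le_right.trans inf_le_right) _).trans
            (hG.eq_zero_of_le_compl hi (inf_le_right.trans inf_le_right) _).symm
        · rfl)
    exact ⟨t, ht ⟨true⟩⟩

include hi hG in
theorem bijective_rs_le_ext (U : Opens X) :
    Function.Bijective (rs G (homOfLE (le_ext i U))) :=
  bijective_rs hi hG _ (map_ext i hi.isInducing _).le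

/-- The functor `W ↦ ext W`. -/
def extFun (i : Z ⟶ X) : Opens Z ⥤ Opens X :=
  Monotone.functor (f := ext i) fun _ _ h => ext_mono i h

/-- The presheaf of abelian groups underlying the preimage of `G`. -/
noncomputable abbrev preAb (i : Z ⟶ X) (G : _root_.ModSite.Mod O_X) :
    (Opens Z)ᵒᵖ ⥤ AddCommGrpCat.{u} :=
  (extFun i).op ⋙ (_root_.ModSite.toAb G).obj

theorem extFun_map_rs {W W' : Opens Z} (g : W' ⟶ W) (t : _root_.ModSite.sect G (ext i W)) :
    (preAb i G).map g.op t = rs G (homOfLE (ext_mono i g.le)) t := rfl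

/-- The module structure on the preimage. -/
@[reducible]
noncomputable def preModule (W : (Opens Z)ᵒᵖ) : Module (O_Z.obj.obj W) ((preAb i G).obj W) where
  smul a t := act hi hc hG (rr O_Z (ofExt hi W.unop) a) t
  one_smul t := by
    show act hi hc hG (rr O_Z (ofExt hi W.unop) 1) t = t
    rw [map_one]; exact act_one hi hc hG t
  mul_smul a b t := by
    show act hi hc hG (rr O_Z (ofExt hi W.unop) (a * b)) t = _
    rw [map_mul]; exact act_mul hi hc hG _ _ t
  smul_zero a := act_zero_right hi hc hG _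
  smul_add a := act_add_right hi hc hG _
  add_smul a b t := by
    show act hi hc hG (rr O_Z (ofExt hi W.unop) (a + b)) t = _
    rw [map_add]; exact act_add_left hi hc hG _ _ t
  zero_smul t := by
    show act hi hc hG (rr O_Z (ofExt hi W.unop) 0) t = 0
    rw [map_zero]; exact act_zero_left hi hc hG t

/-- The preimage of `G`, as a presheaf of modules. -/
noncomputable def prePresheaf : PresheafOfModules.{u} (_root_.ModSite.ringSh O_Z).obj :=
  letI : ∀ W, Module ((_root_.ModSite.ringSh O_Z).obj.obj W) ((preAb i G).obj W) :=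
    fun W => preModule hi hc hG W
  PresheafOfModules.ofPresheaf (preAb i G) fun W W' g a t => by
    show rs G (homOfLE (ext_mono i g.unop.le)) (act hi hc hG (rr O_Z (ofExt hi W.unop) a) t) =
      act hi hc hG (rr O_Z (ofExt hi W'.unop) (rr O_Z g.unop a))
        (rs G (homOfLE (ext_mono i g.unop.le)) t)
    rw [← act_rs, rr_rr, rr_rr]
    rfl

include hi hG in
theorem isSheaf_preAb : TopCat.Presheaf.IsSheaf (preAb i G) := by
  rw [TopCat.Presheaf.isSheaf_iff_isSheafUniqueGluing]
  intro ι U sf hsf
  have hle : iSup (fun a => ext i (U a)) ≤ ext i (iSup U) :=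
    iSup_le fun a => ext_mono i (le_iSup U a)
  have hpre : (Opens.map i).obj (ext i (iSup U)) ≤ (Opens.map i).obj (iSup fun a => ext i (U a)) := by
    intro z hz
    obtain ⟨a, ha⟩ := Opens.mem_iSup.1 ((ofExt hi _).le hz)
    exact Opens.mem_iSup.2 ⟨a, (toExt hi _).le ha⟩
  have hb := bijective_rs hi hG (homOfLE hle) hpre
  obtain ⟨t, ht, htu⟩ := TopCat.Sheaf.existsUnique_gluing
    ((_root_.ModSite.toAb G : TopCat.Sheaf AddCommGrpCat.{u} X)) (fun a => ext i (U a)) sf
    (fun a b => by
      have hp : (Opens.map i).obj (ext i (U a) ⊓ ext i (U b)) ≤ U a ⊓ U b := fun z hz =>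
        ⟨(ofExt hi _).le hz.1, (ofExt hi _).le hz.2⟩
      have hab : ext i (U a) ⊓ ext i (U b) ≤ ext i (U a ⊓ U b) := le_sSup hp
      show rs G (homOfLE inf_le_left : ext i (U a) ⊓ ext i (U b) ⟶ ext i (U a)) (sf a) =
        rs G (homOfLE inf_le_right : ext i (U a) ⊓ ext i (U b) ⟶ ext i (U b)) (sf b)
      have h : rs G (homOfLE (ext_mono i inf_le_left : ext i (U a ⊓ U b) ≤ ext i (U a))) (sf a) =
          rs G (homOfLE (ext_mono i inf_le_right : ext i (U a ⊓ U b) ≤ ext i (U b))) (sf b) := hsf a b
      have h' := congrArg (rs G (homOfLE hab)) h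
      rwa [rs_rs, rs_rs] at h')
  obtain ⟨u, hu⟩ := hb.2 t
  refine ⟨u, fun a => ?_, fun u' hu' => hb.1 (((htu _ fun a => ?_)).trans hu.symm)⟩
  · show rs G (homOfLE (ext_mono i (le_iSup U a))) u = sf a
    have := ht a
    change rs G (homOfLE (le_iSup (fun a => ext i (U a)) a)) t = sf a at this
    rw [← hu, rs_rs] at this
    exact this
  · show rs G (homOfLE (le_iSup (fun a => ext i (U a)) a)) (rs G (homOfLE hle) u') = sf a
    rw [rs_rs]
    exact hu' a

/-- The preimage of `G`. -/
noncomputable def preMod : _root_.ModSite.Mod O_Z where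
  val := prePresheaf hi hc hG
  isSheaf := isSheaf_preAb hi hG

/-- The direct image of the preimage of `G` is `G`. -/
noncomputable def pushPreIso : (pf c).obj (preMod hi hc hG) ≅ G :=
  (SheafOfModules.fullyFaithfulForget _).preimageIso <| PresheafOfModules.isoMk
    (fun U => LinearEquiv.toModuleIso
      (LinearEquiv.ofBijective
        (({ toFun := fun t => rs G (homOfLE (le_ext i U.unop))
              (show _root_.ModSite.sect G (ext i ((Opens.map i).obj U.unop)) from t)
            map_add' := fun t t' => map_add _ _ _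
            map_smul' := fun r t => by
              show rs G (homOfLE (le_ext i U.unop))
                (act hi hc hG (rr O_Z (ofExt hi ((Opens.map i).obj U.unop)) (cc c U.unop r)) t) =
                r • rs G (homOfLE (le_ext i U.unop))
                  (show _root_.ModSite.sect G (ext i ((Opens.map i).obj U.unop)) from t)
              rw [← act_rs, rr_rr]
              refine Eq.trans ?_ (act_cc hi hc hG r _)
              congr 1
              exact ConcreteCategory.congr_hom (O_Z.obj.map_id _) _ }) :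
          ((pf c).obj (preMod hi hc hG)).val.obj U →ₗ[(_root_.ModSite.ringSh O_X).obj.obj U] G.val.obj U)
        (bijective_rs_le_ext hi hG U.unop)))
    (fun U V g => by
      ext t
      show rs G (homOfLE (le_ext i V.unop))
          (rs G (homOfLE (ext_mono i ((Opens.map i).map g.unop).le))
            (show _root_.ModSite.sect G (ext i ((Opens.map i).obj U.unop)) from t)) =
        rs G g.unop (rs G (homOfLE (le_ext i U.unop))
          (show _root_.ModSite.sect G (ext i ((Opens.map i).obj U.unop)) from t))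
      rw [rs_rs, rs_rs]
      rfl)

end

theorem essImage_iff (hi : Topology.IsClosedEmbedding i) (hc : Sheaf.IsLocallySurjective c)
    (G : _root_.ModSite.Mod O_X) : (pf c).essImage G ↔ Killed c G := by
  refine ⟨?_, fun hG => ⟨_, ⟨pushPreIso hi hc hG⟩⟩⟩
  rintro ⟨M, ⟨e⟩⟩ U a ha s
  have hs : ap e.hom (ap e.inv s) = s :=
    congrArg (fun q : G ⟶ G => q.val.app (op U) s) e.inv_hom_id
  rw [← hs, ← map_smul]
  have h : a • (ap e.inv s) = (0 : _root_.ModSite.sect ((pf c).obj M) U) := by
    show (cc c U a) • (show M.val.obj (op ((Opens.map i).obj U)) from ap e.inv s) = 0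
    rw [ha]
    exact zero_smul _ _
  rw [h, map_zero]

end Groth.Agent.H73.RSClosed
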